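import Mathlib

/-!
# Counting algebra homomorphisms from a finite (étale) algebra over a field to a field
-/

set_option autoImplicit false
universe u

namespace Groth.Agent.Lib.Helper14.EtFin

open Module

section Upper

variable (k : Type u) [Field k] (A : Type u) [CommRing A] [Algebra k A] [Module.Finite k A]
  (L : Type u) [Field L] [Algebra k L]

theorem finite_algHom : Finite (A →ₐ[k] L) := by
  have h := cardinalMk_algHom k A L
  have : Cardinal.mk (A →ₐ[k] L) < Cardinal.aleph0 :=
    lt_of_le_of_lt h (Cardinal.natCast_lt_aleph0)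
  exact Cardinal.lt_aleph0_iff_finite.mp this

theorem card_algHom_le : Nat.card (A →ₐ[k] L) ≤ finrank k A := by
  haveI := finite_algHom k A L
  have h := cardinalMk_algHom k A L
  rw [Module.finrank_linearMap_self] at h
  have h2 : (Nat.card (A →ₐ[k] L) : Cardinal) = Cardinal.mk (A →ₐ[k] L) := by
    rw [Nat.cast_card]
  rw [← h2] at h
  exact_mod_cast h

end Upper

section Lower

variable (k : Type u) [Field k] (A : Type u) [CommRing A] [Algebra k A] [Algebra.Etale k A]
  (L : Type u) [Field L] [Algebra k L] [IsSepClosed L]

open TensorProduct in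
theorem le_card_algHom : finrank k A ≤ Nat.card (A →ₐ[k] L) := by
  haveI : Module.Finite k A := Algebra.FormallyUnramified.finite_of_free k A
  haveI := finite_algHom k A L
  let B := L ⊗[k] A
  haveI : Algebra.Etale L B := inferInstance
  haveI : Module.Finite L B := inferInstance
  let e : B ≃ₐ[L] (PrimeSpectrum B → L) := Algebra.FormallyEtale.equivPiOfIsSepClosed L B
  haveI : IsArtinianRing B := isArtinian_of_tower L inferInstance
  haveI : Finite (PrimeSpectrum B) := inferInstance
  haveI : Fintype (PrimeSpectrum B) := Fintype.ofFinite _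
  have h1 : finrank k A = finrank L B := (Module.finrank_baseChange (R := L) (M' := A) (S := k)).symm
  have h2 : finrank L B = Fintype.card (PrimeSpectrum B) := by
    rw [LinearEquiv.finrank_eq e.toLinearEquiv, Module.finrank_fintype_fun_eq_card]
  rw [h1, h2, ← Nat.card_eq_fintype_card]
  let F : PrimeSpectrum B → (A →ₐ[k] L) := fun p =>
    (((Pi.evalAlgHom L (fun _ : PrimeSpectrum B => L) p).comp e.toAlgHom).restrictScalars k).comp
      (Algebra.TensorProduct.includeRight (R := k) (A := L) (B := A))
  refine Nat.card_le_card_of_injective F ?_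
  intro p q hpq
  classical
  by_contra hne
  -- the two `L`-algebra homs agree
  have hL : (Pi.evalAlgHom L (fun _ : PrimeSpectrum B => L) p).comp e.toAlgHom =
      (Pi.evalAlgHom L (fun _ : PrimeSpectrum B => L) q).comp e.toAlgHom := by
    apply Algebra.TensorProduct.ext
    · ext
    · ext a
      exact congrArg (fun g : A →ₐ[k] L => g a) hpq
  have h3 := congrArg (fun g : B →ₐ[L] L => g (e.symm (Pi.single p 1))) hL
  have h4 : (e (e.symm (Pi.single p (1 : L)))) p = (e (e.symm (Pi.single p (1 : L)))) q := h3
  rw [AlgEquiv.apply_symm_apply, Pi.single_eq_same, Pi.single_eq_of_ne (Ne.symm hne)] at h4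
  exact one_ne_zero h4

end Lower

end Groth.Agent.Lib.Helper14.EtFin
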