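import Mathlib
import Groth.Prelude.Def_ega3
import Groth.Agent.Lib.Helper14.EtFin.Alg

/-!
# Counting lifts of a field-valued point along a quasi-finite / étale morphism
-/

set_option autoImplicit false
universe u

open CategoryTheory CategoryTheory.Limits AlgebraicGeometry

namespace Groth.Agent.Lib.Helper14.EtFin

variable {T S : Scheme.{u}} (f : T ⟶ S)

theorem ringHom_quasiFinite_of_etale {R A : Type u} [CommRing R] [CommRing A] (φ : R →+* A)
    (h : φ.Etale) : φ.QuasiFinite := by
  algebraize [φ]
  have : Algebra.Etale R A := h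
  have : Algebra.FiniteType R A := inferInstance
  have : Algebra.QuasiFinite R A := inferInstance
  exact this

theorem locallyQuasiFinite_of_etale [Etale f] : LocallyQuasiFinite f := by
  rw [HasRingHomProperty.iff_appLE (P := @LocallyQuasiFinite)]
  intro U V e
  exact ringHom_quasiFinite_of_etale _ (HasRingHomProperty.appLE (P := @Etale) _ ‹_› U V e)

/-- The lifts of a morphism `x : Spec L ⟶ S` along `f`. -/
def Lifts {X : Scheme.{u}} (x : X ⟶ S) : Type u := {h : X ⟶ T // h ≫ f = x}

section Count

variable [LocallyQuasiFinite f] [QuasiCompact f] (s : S)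

theorem isAffine_fiber : IsAffine (f.fiber s) :=
  isAffine_of_isAffineHom (f.fiberToSpecResidueField s)

theorem algebraMap_fiber_eq :
    algebraMap (S.residueField s) Γ(f.fiber s, ⊤) =
      ((f.fiberToSpecResidueField s).appTop.hom.comp
        (Scheme.ΓSpecIso (S.residueField s)).inv.hom) := rfl

theorem finite_fiber : Module.Finite (S.residueField s) Γ(f.fiber s, ⊤) := by
  haveI := isAffine_fiber f s
  rw [← RingHom.finite_algebraMap, algebraMap_fiber_eq]
  refine RingHom.Finite.comp (Scheme.Hom.finite_appTop _) ?_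
  exact RingHom.Finite.of_surjective _
    (ConcreteCategory.bijective_of_isIso (Scheme.ΓSpecIso (S.residueField s)).inv).2

theorem etale_fiber [Etale f] : Algebra.Etale (S.residueField s) Γ(f.fiber s, ⊤) := by
  haveI := isAffine_fiber f s
  rw [← RingHom.etale_algebraMap, algebraMap_fiber_eq]
  refine RingHom.Etale.stableUnderComposition _ _ ?_ ?_
  · exact RingHom.Etale.of_bijective
      (ConcreteCategory.bijective_of_isIso (Scheme.ΓSpecIso (S.residueField s)).inv)
  · exact HasRingHomProperty.appTop (P := @Etale) _ inferInstance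

variable {L : Type u} [Field L] (φ : S.residueField s ⟶ CommRingCat.of L)

/-- The lift to the fibre. -/
noncomputable def toFiber (h : Lifts f (Spec.map φ ≫ S.fromSpecResidueField s)) :
    Spec (CommRingCat.of L) ⟶ f.fiber s :=
  pullback.lift h.1 (Spec.map φ) h.2

theorem toFiber_fiberι (h : Lifts f (Spec.map φ ≫ S.fromSpecResidueField s)) :
    toFiber f s φ h ≫ f.fiberι s = h.1 :=
  pullback.lift_fst _ _ _

theorem toFiber_snd (h : Lifts f (Spec.map φ ≫ S.fromSpecResidueField s)) :
    toFiber f s φ h ≫ f.fiberToSpecResidueField s = Spec.map φ :=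
  pullback.lift_snd _ _ _

/-- The algebra map attached to a lift. -/
noncomputable def liftAlgHom (h : Lifts f (Spec.map φ ≫ S.fromSpecResidueField s)) :
    letI : Algebra (S.residueField s) L := φ.hom.toAlgebra
    Γ(f.fiber s, ⊤) →ₐ[S.residueField s] L :=
  letI : Algebra (S.residueField s) L := φ.hom.toAlgebra
  { ((toFiber f s φ h).appTop ≫ (Scheme.ΓSpecIso (CommRingCat.of L)).hom).hom with
    commutes' := by
      intro c
      have h1 : (Scheme.ΓSpecIso (S.residueField s)).inv ≫
          (f.fiberToSpecResidueField s).appTop ≫ (toFiber f s φ h).appTop ≫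
            (Scheme.ΓSpecIso (CommRingCat.of L)).hom = φ := by
        rw [← Scheme.Hom.comp_appTop_assoc, toFiber_snd, Scheme.ΓSpecIso_naturality,
          Iso.inv_hom_id_assoc]
      exact congrArg (fun g : S.residueField s ⟶ CommRingCat.of L => g.hom c) h1 }

theorem liftAlgHom_injective :
    letI : Algebra (S.residueField s) L := φ.hom.toAlgebra
    Function.Injective (liftAlgHom f s φ) := by
  letI : Algebra (S.residueField s) L := φ.hom.toAlgebra
  haveI := isAffine_fiber f s
  intro h₁ h₂ e
  have e1 : ((toFiber f s φ h₁).appTop ≫ (Scheme.ΓSpecIso (CommRingCat.of L)).hom) =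
      ((toFiber f s φ h₂).appTop ≫ (Scheme.ΓSpecIso (CommRingCat.of L)).hom) := by
    ext a
    exact congrArg (fun g : Γ(f.fiber s, ⊤) →ₐ[S.residueField s] L => g a) e
  have e2 : (toFiber f s φ h₁).appTop = (toFiber f s φ h₂).appTop :=
    (cancel_mono (Scheme.ΓSpecIso (CommRingCat.of L)).hom).mp e1
  have e3 : toFiber f s φ h₁ = toFiber f s φ h₂ := ext_of_isAffine e2
  apply Subtype.ext
  rw [← toFiber_fiberι f s φ h₁, ← toFiber_fiberι f s φ h₂, e3]

/-- Upper bound for the number of lifts. -/
theorem card_lifts_le (d : ℕ)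
    (hd : Module.finrank (S.residueField s) Γ(f.fiber s, ⊤) = d) :
    Finite (Lifts f (Spec.map φ ≫ S.fromSpecResidueField s)) ∧
      Nat.card (Lifts f (Spec.map φ ≫ S.fromSpecResidueField s)) ≤ d := by
  letI : Algebra (S.residueField s) L := φ.hom.toAlgebra
  haveI := finite_fiber f s
  haveI := finite_algHom (S.residueField s) Γ(f.fiber s, ⊤) L
  refine ⟨Finite.of_injective _ (liftAlgHom_injective f s φ), ?_⟩
  refine le_trans (Nat.card_le_card_of_injective _ (liftAlgHom_injective f s φ)) ?_
  rw [← hd]
  exact card_algHom_le _ _ _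

/-- The lift attached to an algebra map. -/
noncomputable def ofAlgHom
    (ψ : letI : Algebra (S.residueField s) L := φ.hom.toAlgebra
      Γ(f.fiber s, ⊤) →ₐ[S.residueField s] L) :
    Lifts f (Spec.map φ ≫ S.fromSpecResidueField s) :=
  letI : Algebra (S.residueField s) L := φ.hom.toAlgebra
  haveI := isAffine_fiber f s
  ⟨Spec.map (CommRingCat.ofHom ψ.toRingHom) ≫ (f.fiber s).isoSpec.inv ≫ f.fiberι s, by
    have h1 : (f.fiber s).isoSpec.inv ≫ f.fiberToSpecResidueField s =
        Spec.map ((Scheme.ΓSpecIso (S.residueField s)).inv ≫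
          (f.fiberToSpecResidueField s).appTop) := by
      rw [← Scheme.isoSpec_inv_naturality, Scheme.isoSpec_Spec_inv, ← Spec.map_comp]
    have h2 : ((Scheme.ΓSpecIso (S.residueField s)).inv ≫
          (f.fiberToSpecResidueField s).appTop) ≫ CommRingCat.ofHom ψ.toRingHom = φ := by
      ext c
      exact ψ.commutes c
    rw [Category.assoc, Category.assoc, Scheme.Hom.fiber_fac, reassoc_of% h1, ← Spec.map_comp_assoc,
      h2]⟩

theorem ofAlgHom_injective :
    letI : Algebra (S.residueField s) L := φ.hom.toAlgebra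
    Function.Injective (ofAlgHom f s φ) := by
  letI : Algebra (S.residueField s) L := φ.hom.toAlgebra
  haveI := isAffine_fiber f s
  intro ψ₁ ψ₂ e
  have e1 : Spec.map (CommRingCat.ofHom ψ₁.toRingHom) ≫ (f.fiber s).isoSpec.inv ≫ f.fiberι s =
      Spec.map (CommRingCat.ofHom ψ₂.toRingHom) ≫ (f.fiber s).isoSpec.inv ≫ f.fiberι s :=
    congrArg Subtype.val e
  rw [← Category.assoc, ← Category.assoc, cancel_mono, cancel_mono] at e1
  have e2 := Spec.map_injective e1
  ext a
  exact congrArg (fun g : Γ(f.fiber s, ⊤) ⟶ CommRingCat.of L => g.hom a) e2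

/-- Lower bound for the number of lifts to a separably closed field. -/
theorem le_card_lifts [Etale f] [IsSepClosed L] (d : ℕ)
    (hd : Module.finrank (S.residueField s) Γ(f.fiber s, ⊤) = d) :
    d ≤ Nat.card (Lifts f (Spec.map φ ≫ S.fromSpecResidueField s)) := by
  letI : Algebra (S.residueField s) L := φ.hom.toAlgebra
  haveI := etale_fiber f s
  haveI := (card_lifts_le f s φ d hd).1
  rw [← hd]
  exact le_trans (le_card_algHom _ _ L) (Nat.card_le_card_of_injective _ (ofAlgHom_injective f s φ))

end Count

/-- General form: for any `x : Spec L ⟶ S`. -/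
theorem card_lifts_le' [LocallyQuasiFinite f] [QuasiCompact f] (d : ℕ)
    (hd : ∀ s : S, Module.finrank (S.residueField s) Γ(f.fiber s, ⊤) = d)
    {L : Type u} [Field L] (x : Spec (CommRingCat.of L) ⟶ S) :
    Finite (Lifts f x) ∧ Nat.card (Lifts f x) ≤ d := by
  have hx := Scheme.descResidueField_stalkClosedPointTo_fromSpecResidueField L S x
  rw [← hx]
  exact card_lifts_le f _ _ d (hd _)

theorem le_card_lifts' [Etale f] [QuasiCompact f] (d : ℕ)
    (hd : ∀ s : S, Module.finrank (S.residueField s) Γ(f.fiber s, ⊤) = d)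
    {L : Type u} [Field L] [IsSepClosed L] (x : Spec (CommRingCat.of L) ⟶ S) :
    d ≤ Nat.card (Lifts f x) := by
  haveI := locallyQuasiFinite_of_etale f
  have hx := Scheme.descResidueField_stalkClosedPointTo_fromSpecResidueField L S x
  rw [← hx]
  exact le_card_lifts f _ _ d (hd _)

end Groth.Agent.Lib.Helper14.EtFin
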