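import Mathlib
import Groth.Prelude.Def_ega3
import Groth.Agent.Lib.Helper14.EtFin.Count

/-!
# Étale + universally closed + constant fibre rank implies separated (hence finite)
-/

set_option autoImplicit false
universe u

open CategoryTheory CategoryTheory.Limits AlgebraicGeometry IsLocalRing

namespace Groth.Agent.Lib.Helper14.EtFin

variable {T S : Scheme.{u}} (f : T ⟶ S)

/-- Two morphisms from a local scheme whose pair sends the closed point into the (open)
diagonal are equal. -/
theorem eq_of_mem_range_diagonal [IsOpenImmersion (pullback.diagonal f)]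
    {R : Type u} [CommRing R] [IsLocalRing R]
    (l₁ l₂ : Spec (CommRingCat.of R) ⟶ T) (h : l₁ ≫ f = l₂ ≫ f)
    (hm : (pullback.lift l₁ l₂ h) (closedPoint R) ∈ Set.range (pullback.diagonal f)) :
    l₁ = l₂ := by
  set g : Spec (CommRingCat.of R) ⟶ pullback f f := pullback.lift l₁ l₂ h with hg
  have hU : g ⁻¹ᵁ (pullback.diagonal f).opensRange = ⊤ := by
    exact (IsLocalRing.closedPoint_mem_iff (g ⁻¹ᵁ (pullback.diagonal f).opensRange)).mp hm
  have hrange : Set.range g ⊆ Set.range (pullback.diagonal f) := by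
    rintro _ ⟨x, rfl⟩
    have : x ∈ g ⁻¹ᵁ (pullback.diagonal f).opensRange := by rw [hU]; trivial
    exact this
  have hfac := IsOpenImmersion.lift_fac (pullback.diagonal f) g hrange
  have h1 : l₁ = IsOpenImmersion.lift (pullback.diagonal f) g hrange := by
    have := congrArg (· ≫ pullback.fst f f) hfac
    simp only [Category.assoc, pullback.diagonal_fst, Category.comp_id] at this
    rw [this, hg, pullback.lift_fst]
  have h2 : l₂ = IsOpenImmersion.lift (pullback.diagonal f) g hrange := by
    have := congrArg (· ≫ pullback.snd f f) hfac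
    simp only [Category.assoc, pullback.diagonal_snd, Category.comp_id] at this
    rw [this, hg, pullback.lift_snd]
  rw [h1, ← h2]

/-- If `p ≫ l₁ = p ≫ l₂` then the pair `(l₁, l₂)` maps the image of `p` into the diagonal. -/
theorem mem_range_diagonal_of_comp_eq {X Y : Scheme.{u}} (p : Y ⟶ X) (l₁ l₂ : X ⟶ T)
    (h : l₁ ≫ f = l₂ ≫ f) (e : p ≫ l₁ = p ≫ l₂) (y : Y) :
    (pullback.lift l₁ l₂ h) (p y) ∈ Set.range (pullback.diagonal f) := by
  have h1 : p ≫ pullback.lift l₁ l₂ h = (p ≫ l₁) ≫ pullback.diagonal f := by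
    apply pullback.hom_ext
    · rw [Category.assoc, pullback.lift_fst, Category.assoc, pullback.diagonal_fst, Category.comp_id]
    · rw [Category.assoc, pullback.lift_snd, Category.assoc, pullback.diagonal_snd, Category.comp_id, e]
  refine ⟨(p ≫ l₁) y, ?_⟩
  rw [← Scheme.Hom.comp_apply, ← h1, Scheme.Hom.comp_apply]

theorem uniqueness [Etale f] [QuasiCompact f] [UniversallyClosed f] (d : ℕ)
    (hd : ∀ s : S, Module.finrank (S.residueField s) Γ(f.fiber s, ⊤) = d) :
    ValuativeCriterion.Uniqueness f := by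
  haveI := locallyQuasiFinite_of_etale f
  have hex : ValuativeCriterion.Existence f := by
    have : (ValuativeCriterion.Existence ⊓ @QuasiCompact) f := by
      rw [← UniversallyClosed.eq_valuativeCriterion]; infer_instance
    exact this.1
  intro Sq
  constructor
  intro a b
  suffices hl : a.l = b.l by
    cases a; cases b; cases hl; rfl
  -- notation
  obtain ⟨l₁, hl₁a, hl₁b⟩ := a
  obtain ⟨l₂, hl₂a, hl₂b⟩ := b
  change l₁ = l₂
  have hff : l₁ ≫ f = l₂ ≫ f := hl₁b.trans hl₂b.symm
  apply eq_of_mem_range_diagonal f l₁ l₂ hff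
  -- the extension of the valuation ring
  let K' := AlgebraicClosure Sq.K
  obtain ⟨A, hA, hloc⟩ := IsLocalRing.exists_factor_valuationRing (algebraMap Sq.R K')
  let j : Sq.R →+* A := (algebraMap Sq.R K').codRestrict A.toSubring hA
  haveI : IsLocalHom j := hloc
  let π : Spec (CommRingCat.of A) ⟶ Spec (CommRingCat.of Sq.R) := Spec.map (CommRingCat.ofHom j)
  let gen : Spec (CommRingCat.of K') ⟶ Spec (CommRingCat.of A) :=
    Spec.map (CommRingCat.ofHom (algebraMap A K'))
  let sp : Spec (CommRingCat.of (ResidueField A)) ⟶ Spec (CommRingCat.of A) :=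
    Spec.map (CommRingCat.ofHom (residue A))
  let i₂' : Spec (CommRingCat.of A) ⟶ S := π ≫ Sq.i₂
  let resGen : Lifts f i₂' → Lifts f (gen ≫ i₂') :=
    fun l => ⟨gen ≫ l.1, by rw [Category.assoc, l.2]⟩
  let resSp : Lifts f i₂' → Lifts f (sp ≫ i₂') :=
    fun l => ⟨sp ≫ l.1, by rw [Category.assoc, l.2]⟩
  -- surjectivity of `resGen`
  have hsurj : Function.Surjective resGen := by
    intro η
    let Sq' : ValuativeCommSq f := ⟨A, K', η.1, i₂', ⟨η.2⟩⟩
    obtain ⟨⟨l, hla, hlb⟩⟩ := (hex Sq').exists_lift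
    exact ⟨⟨l, hlb⟩, Subtype.ext hla⟩
  -- injectivity of `resSp`
  have hinj : Function.Injective resSp := by
    intro l l' e
    have e' : sp ≫ l.1 = sp ≫ l'.1 := congrArg Subtype.val e
    have hff' : l.1 ≫ f = l'.1 ≫ f := l.2.trans l'.2.symm
    apply Subtype.ext
    apply eq_of_mem_range_diagonal f l.1 l'.1 hff'
    have := mem_range_diagonal_of_comp_eq f sp l.1 l'.1 hff' e' default
    have hpt : sp default = closedPoint A :=
      IsLocalRing.PrimeSpectrum.comap_residue A _
    rwa [hpt] at this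
  -- cardinalities
  obtain ⟨hfinSp, hcardSp⟩ := card_lifts_le' f d hd (sp ≫ i₂')
  obtain ⟨hfinGen, -⟩ := card_lifts_le' f d hd (gen ≫ i₂')
  have hcardGen := le_card_lifts' f d hd (gen ≫ i₂')
  haveI : Finite (Lifts f i₂') := Finite.of_injective _ hinj
  have hcard : Nat.card (Lifts f i₂') ≤ Nat.card (Lifts f (gen ≫ i₂')) :=
    (Nat.card_le_card_of_injective _ hinj).trans (hcardSp.trans hcardGen)
  have hbij := hsurj.bijective_of_nat_card_le hcard
  -- the two lifts
  let L₁ : Lifts f i₂' := ⟨π ≫ l₁, by rw [Category.assoc, hl₁b]⟩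
  let L₂ : Lifts f i₂' := ⟨π ≫ l₂, by rw [Category.assoc, hl₂b]⟩
  have hgenπ : gen ≫ π = Spec.map (CommRingCat.ofHom (algebraMap Sq.K K')) ≫
      Spec.map (CommRingCat.ofHom (algebraMap Sq.R Sq.K)) := by
    rw [← Spec.map_comp, ← Spec.map_comp]
    congr 1
  have hL : resGen L₁ = resGen L₂ := by
    apply Subtype.ext
    change gen ≫ π ≫ l₁ = gen ≫ π ≫ l₂
    rw [reassoc_of% hgenπ, reassoc_of% hgenπ, hl₁a, hl₂a]
  have hπ : π ≫ l₁ = π ≫ l₂ := congrArg Subtype.val (hbij.1 hL)
  have := mem_range_diagonal_of_comp_eq f π l₁ l₂ hff hπ (closedPoint A)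
  have hpt : π (closedPoint A) = closedPoint Sq.R := IsLocalRing.comap_closedPoint j
  rwa [hpt] at this

theorem isSeparated [Etale f] [QuasiCompact f] [QuasiSeparated f] [UniversallyClosed f] (d : ℕ)
    (hd : ∀ s : S, Module.finrank (S.residueField s) Γ(f.fiber s, ⊤) = d) :
    IsSeparated f :=
  IsSeparated.of_valuativeCriterion f (uniqueness f d hd)

theorem isFinite [Etale f] [QuasiCompact f] [QuasiSeparated f] [UniversallyClosed f] (d : ℕ)
    (hd : ∀ s : S, Module.finrank (S.residueField s) Γ(f.fiber s, ⊤) = d) :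
    IsFinite f := by
  haveI := locallyQuasiFinite_of_etale f
  haveI := isSeparated f d hd
  haveI : IsProper f := {}
  exact IsFinite.of_isProper_of_locallyQuasiFinite f

end Groth.Agent.Lib.Helper14.EtFin
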